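import Cfsg.Agent.LocalThree.AltNineLocal.Three
import Cfsg.Agent.Coprime.SolvableBasics

/-!
A Sylow subgroup of order nine with three lines centralised only modulo the core.
-/

set_option autoImplicit false
set_option maxRecDepth 8000
set_option linter.unusedSectionVars false

namespace Cfsg.Lib.RankThree

open Subgroup
open scoped Pointwise

universe u

variable {L : Type u} [Group L] [Finite L]

theorem core_inj {A : Subgroup L} (hA : IsPGroup 3 A) {x : L} (hx : x ∈ A)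
    (h : QuotientGroup.mk' (Cfsg.pPrimeCore 3 L) x = 1) : x = 1 := by
  have : Fact (Nat.Prime 3) := ⟨Nat.prime_three⟩
  have hxO : x ∈ Cfsg.pPrimeCore 3 L := (QuotientGroup.eq_one_iff x).1 h
  obtain ⟨k, hk⟩ := hA ⟨x, hx⟩
  have h1 : orderOf x ∣ 3 ^ k := orderOf_dvd_of_pow_eq_one (congrArg Subtype.val hk)
  have h2 : orderOf x ∣ Nat.card (Cfsg.pPrimeCore 3 L) := Subgroup.orderOf_dvd_natCard _ hxO
  exact orderOf_eq_one_iff.1 (Nat.eq_one_of_dvd_coprimes
    ((Cfsg.Lib.Components.coprime_card_pPrimeCore 3).symm.pow_left k) h1 h2)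

/-- Conjugation adjusted by the core. -/
theorem core_lift (A : Subgroup L) (hA : IsPGroup 3 A) {g : L}
    (hg : ∀ x ∈ A, QuotientGroup.mk' (Cfsg.pPrimeCore 3 L) (g * x * g⁻¹) ∈
      A.map (QuotientGroup.mk' (Cfsg.pPrimeCore 3 L))) :
    ∃ h : L, QuotientGroup.mk' (Cfsg.pPrimeCore 3 L) h ∈ A.map (QuotientGroup.mk' (Cfsg.pPrimeCore 3 L)) ∧
      ∀ x ∈ A, h * g * x * (h * g)⁻¹ ∈ A := by
  classical
  have : Fact (Nat.Prime 3) := ⟨Nat.prime_three⟩
  set π := QuotientGroup.mk' (Cfsg.pPrimeCore 3 L) with hπ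
  obtain ⟨H, hH⟩ : ∃ H : Subgroup L, H = (A.map π).comap π := ⟨_, rfl⟩
  have hAH : A ≤ H := fun x hx => hH ▸ mem_comap.2 (mem_map_of_mem π hx)
  have hgH : A.map (MulAut.conj g).toMonoidHom ≤ H := by
    rintro _ ⟨x, hx, rfl⟩
    exact hH ▸ mem_comap.2 (hg x hx)
  have hcard : Nat.card H = Nat.card (Cfsg.pPrimeCore 3 L) * Nat.card A := by
    have hinj : Function.Injective (π.domRestrict A) := (injective_iff_map_eq_one _).2 fun x hx =>
      Subtype.ext (core_inj hA x.2 hx)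
    have hAc : Nat.card (A.map π) = Nat.card A := by
      rw [← MonoidHom.domRestrict_range]
      exact (Nat.card_congr (MonoidHom.ofInjective hinj).toEquiv).symm
    rw [hH, hπ, Cfsg.Lib.Coprime.card_comap_mk', ← hπ, hAc]
  have hco : ¬ 3 ∣ Nat.card (Cfsg.pPrimeCore 3 L) := fun h =>
    absurd (Nat.eq_one_of_dvd_coprimes (Cfsg.Lib.Components.coprime_card_pPrimeCore 3) h dvd_rfl) (by norm_num)
  have hidx : ∀ B : Subgroup L, B ≤ H → Nat.card B = Nat.card A → ¬ 3 ∣ (B.subgroupOf H).index := by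
    intro B hB hc
    have h := (B.subgroupOf H).card_mul_index
    rw [Nat.card_congr (subgroupOfEquivOfLe hB).toEquiv, hc, hcard, mul_comm (Nat.card (Cfsg.pPrimeCore 3 L))] at h
    rw [Nat.eq_of_mul_eq_mul_left Nat.card_pos h]
    exact hco
  let P : Sylow 3 H := (hA.of_equiv (subgroupOfEquivOfLe hAH).symm).toSylow (hidx A hAH rfl)
  let Q : Sylow 3 H := ((hA.map (MulAut.conj g).toMonoidHom).of_equiv (subgroupOfEquivOfLe hgH).symm).toSylow
    (hidx _ hgH (card_map_of_injective (MulAut.conj g).injective))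
  obtain ⟨c, hc⟩ := MulAction.exists_smul_eq H Q P
  refine ⟨c, ?_, fun x hx => ?_⟩
  · have hcH : (c : L) ∈ (A.map π).comap π := hH.le c.2
    exact mem_comap.1 hcH
  · have h1 : c * ⟨g * x * g⁻¹, hgH ⟨x, hx, rfl⟩⟩ * c⁻¹ ∈ (P : Subgroup H) := by
      rw [← hc, Sylow.coe_subgroup_smul]
      exact Subgroup.smul_mem_pointwise_smul _ (MulAut.conj c) _ (show (⟨g * x * g⁻¹, hgH ⟨x, hx, rfl⟩⟩ : H) ∈ (A.map (MulAut.conj g).toMonoidHom).subgroupOf H from
          ⟨x, hx, rfl⟩)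
    have h2 : ((c * ⟨g * x * g⁻¹, hgH ⟨x, hx, rfl⟩⟩ * c⁻¹ : H) : L) ∈ A := h1
    have e : (c : L) * g * x * ((c : L) * g)⁻¹ = (c : L) * (g * x * g⁻¹) * (c : L)⁻¹ := by group
    rw [e]
    exact h2

/-- The conclusion: the normaliser covers the quotient by the core. -/
theorem core_three (P : Sylow 3 L) (h9 : Nat.card (P : Subgroup L) = 9)
    (hcomm : ∀ x ∈ (P : Subgroup L), ∀ y ∈ (P : Subgroup L), x * y = y * x)
    (hcube : ∀ x ∈ (P : Subgroup L), x * (x * x) = 1) (r : Fin 3 → L) (hr2 : r 2 = r 0 * r 1)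
    (hrP : ∀ i, r i ∈ (P : Subgroup L)) (hr1 : ∀ i, r i ≠ 1)
    (hsep : ∀ i j, i ≠ j → r i ≠ r j ∧ r i ≠ (r j)⁻¹) (t : L) (hinv : ∀ x ∈ (P : Subgroup L), t * x * t⁻¹ = x⁻¹)
    (hcent : ∀ i g, g * r i = r i * g → ∃ p ∈ (P : Subgroup L), p⁻¹ * g ∈ Cfsg.pPrimeCore 3 L)
    (hnorm : ∀ g ∈ normalizer ((P : Subgroup L) : Set L), ∃ p ∈ (P : Subgroup L),
      p⁻¹ * g ∈ Cfsg.pPrimeCore 3 L ∨ p⁻¹ * (t⁻¹ * g) ∈ Cfsg.pPrimeCore 3 L) :
    ∀ g : L, ∃ x ∈ normalizer ((P : Subgroup L) : Set L), x⁻¹ * g ∈ Cfsg.pPrimeCore 3 L := by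
  classical
  have : Fact (Nat.Prime 3) := ⟨Nat.prime_three⟩
  set π := QuotientGroup.mk' (Cfsg.pPrimeCore 3 L) with hπ
  have hsurj : Function.Surjective π := QuotientGroup.mk'_surjective _
  obtain ⟨Pb, hPb⟩ : ∃ Pb : Sylow 3 (L ⧸ Cfsg.pPrimeCore 3 L), (Pb : Subgroup _) = (P : Subgroup L).map π :=
    ⟨P.mapSurjective hsurj, Sylow.coe_mapSurjective _ _⟩
  have hinj : ∀ x ∈ (P : Subgroup L), ∀ y ∈ (P : Subgroup L), π x = π y → x = y := fun x hx y hy e => by
    refine inv_mul_eq_one.1 (core_inj P.2 (mul_mem (inv_mem hx) hy) ?_)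
    rw [map_mul, map_inv, e, inv_mul_cancel]
  have hin : ∀ {p g : L}, p ∈ (P : Subgroup L) → p⁻¹ * g ∈ Cfsg.pPrimeCore 3 L → π g ∈ (Pb : Subgroup _) := by
    intro p g hp h
    have e : π g = π p := by
      have h1 : π (p⁻¹ * g) = 1 := (QuotientGroup.eq_one_iff _).2 h
      rw [map_mul, map_inv, inv_mul_eq_one] at h1
      exact h1.symm
    rw [hPb, e]; exact mem_map_of_mem π hp
  have hcentb : ∀ i, centralizer ({π (r i)} : Set (L ⧸ Cfsg.pPrimeCore 3 L)) = (Pb : Subgroup _) := by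
    intro i
    refine le_antisymm (fun q hq => ?_) (fun q hq => mem_centralizer_singleton_iff.2 ?_)
    · obtain ⟨g, rfl⟩ := hsurj q
      have hqc : π g * π (r i) = π (r i) * π g := mem_centralizer_singleton_iff.1 hq
      obtain ⟨h, hh, hhA⟩ := core_lift (zpowers (r i)) (P.2.to_le (zpowers_le.2 (hrP i))) (g := g) (by
        intro x hx
        refine ⟨x, hx, ?_⟩
        obtain ⟨k, rfl⟩ := mem_zpowers_iff.1 hx
        rw [map_mul, map_mul, map_inv, map_zpow, ((Commute.zpow_right (show Commute (π g) (π (r i)) from hqc) k)).eq,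
          mul_inv_cancel_right])
      obtain ⟨y, hy, hye⟩ := hh
      obtain ⟨k, rfl⟩ := mem_zpowers_iff.1 hy
      have hhg : h * g * r i * (h * g)⁻¹ = r i := by
        refine hinj _ (zpowers_le.2 (hrP i) (hhA _ (mem_zpowers _))) _ (hrP i) ?_
        rw [map_mul, map_mul, map_inv, map_mul, ← hye, map_zpow,
          (((Commute.zpow_left (Commute.refl (π (r i))) k).mul_left (show Commute (π g) (π (r i)) from hqc))).eq,
          mul_inv_cancel_right]
      obtain ⟨p, hp, hpo⟩ := hcent i (h * g) (mul_inv_eq_iff_eq_mul.1 hhg)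
      have h1 := hin hp hpo
      rw [map_mul, ← hye] at h1
      have h2 : π (r i ^ k) ∈ (Pb : Subgroup _) := hPb ▸ mem_map_of_mem π (zpow_mem (hrP i) k)
      exact (Subgroup.mul_mem_cancel_left _ h2).1 h1
    · obtain ⟨p, hp, rfl⟩ := (le_of_eq hPb) hq
      rw [← map_mul, ← map_mul, hcomm _ hp _ (hrP i)]
  have hnb : ∀ g, π g ∈ normalizer ((Pb : Subgroup (L ⧸ Cfsg.pPrimeCore 3 L)) : Set (L ⧸ Cfsg.pPrimeCore 3 L)) →
      ∃ h, π h ∈ (Pb : Subgroup _) ∧ h * g ∈ normalizer ((P : Subgroup L) : Set L) := by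
    intro g hg
    obtain ⟨h, hh, hA⟩ := core_lift (P : Subgroup L) P.2 (g := g) (fun x hx => by
      have h1 := (mem_normalizer_iff.1 hg (π x)).1 (hPb ▸ mem_map_of_mem π hx)
      rw [map_mul, map_mul, map_inv]
      exact hPb ▸ h1)
    refine ⟨h, hPb ▸ hh, mem_normalizer_iff_map_conj_eq.2 (Subgroup.eq_of_le_of_card_ge ?_
      (le_of_eq (card_map_of_injective (MulAut.conj (h * g)).injective).symm))⟩
    rintro _ ⟨x, hx, rfl⟩
    exact hA x hx
  have hnormb : ∀ q ∈ normalizer ((Pb : Subgroup (L ⧸ Cfsg.pPrimeCore 3 L)) : Set (L ⧸ Cfsg.pPrimeCore 3 L)),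
      q ∈ (Pb : Subgroup _) ∨ (π t)⁻¹ * q ∈ (Pb : Subgroup _) := by
    intro q hq
    obtain ⟨g, rfl⟩ := hsurj q
    obtain ⟨h, hh, hhg⟩ := hnb g hq
    obtain ⟨p, hp, hpo | hpo⟩ := hnorm _ hhg
    · have h1 := hin hp hpo
      rw [map_mul] at h1
      exact Or.inl ((Subgroup.mul_mem_cancel_left _ hh).1 h1)
    · have h1 := hin hp hpo
      rw [map_mul, map_inv, map_mul] at h1
      refine Or.inr ?_
      obtain ⟨y, hy, hye⟩ := (le_of_eq hPb) hh
      have h3 : (π t)⁻¹ * π h * π t ∈ (Pb : Subgroup _) := by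
        have hy' : t⁻¹ * y * t = y⁻¹ := by
          have := hinv _ (inv_mem hy)
          rw [inv_inv] at this
          calc t⁻¹ * y * t = t⁻¹ * (t * y⁻¹ * t⁻¹) * t := by rw [this]
            _ = y⁻¹ := by group
        rw [← hye, ← map_inv, ← map_mul, ← map_mul, hy', hPb]
        exact mem_map_of_mem π (inv_mem hy)
      have e : (π t)⁻¹ * (π h * π g) = (π t)⁻¹ * π h * π t * ((π t)⁻¹ * π g) := by group
      rw [e] at h1
      exact (Subgroup.mul_mem_cancel_left _ h3).1 h1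
  have hPbmem : ∀ q ∈ (Pb : Subgroup _), ∃ p ∈ (P : Subgroup L), π p = q := fun q hq => (le_of_eq hPb) hq
  have hne : ∀ i, π (r i) ≠ 1 := fun i e => hr1 i (core_inj P.2 (hrP i) e)
  have htop := Cfsg.Lib.AltNineLocal.Three.normal {
    P := Pb
    r := fun i => π (r i)
    r_two := by rw [hr2, map_mul]
    r_mem := fun i => hPb ▸ mem_map_of_mem π (hrP i)
    card9 := by
      rw [hPb, ← h9]
      rw [← MonoidHom.domRestrict_range]
      refine (Nat.card_congr (MonoidHom.ofInjective ?_).toEquiv).symm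
      exact fun x y e => Subtype.ext (hinj x x.2 y y.2 e)
    cube := fun q hq => by
      obtain ⟨p, hp, rfl⟩ := hPbmem q hq
      rw [← map_mul, ← map_mul, hcube p hp, map_one]
    comm := fun q hq q' hq' => by
      obtain ⟨p, hp, rfl⟩ := hPbmem q hq
      obtain ⟨p', hp', rfl⟩ := hPbmem q' hq'
      rw [← map_mul, ← map_mul, hcomm p hp p' hp']
    r_ne := hne
    r_sep := fun i j hij => ⟨fun e => (hsep i j hij).1 (hinj _ (hrP i) _ (hrP j) e), fun e => (hsep i j hij).2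
      (hinj _ (hrP i) _ (inv_mem (hrP j)) (e.trans (map_inv π _).symm))⟩
    cent := hcentb
    t := π t
    inv := fun q hq => by
      obtain ⟨p, hp, rfl⟩ := hPbmem q hq
      rw [← map_inv, ← map_mul, ← map_mul, hinv p hp, map_inv]
    norm := hnormb
    core := Cfsg.Lib.Coprime.pPrimeCore_quotient_eq_bot }
  intro g
  obtain ⟨h, hh, hhg⟩ := hnb g (htop ▸ mem_top _)
  obtain ⟨p, hp, hpe⟩ := hPbmem _ hh
  refine ⟨p⁻¹ * (h * g), mul_mem (Subgroup.le_normalizer (inv_mem hp)) hhg, (QuotientGroup.eq_one_iff _).1 ?_⟩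
  show π ((p⁻¹ * (h * g))⁻¹ * g) = 1
  rw [map_mul, map_inv, map_mul, map_inv, map_mul, hpe, inv_mul_cancel_left, inv_mul_cancel]

end Cfsg.Lib.RankThree
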