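import Cfsg.Agent.LocalThree.RankThree.KleinPair

/-!
An elementary abelian self-centralising subgroup of order `27` without invariant subgroups of order
prime to three: the centraliser of any two independent elements normalises it.
-/

set_option autoImplicit false
set_option maxRecDepth 8000

namespace Cfsg.Lib.RankThree

open Subgroup

universe u

/-- The data. -/
structure Ctx (G : Type u) [Group G] where
  J : Subgroup G
  comm : ∀ a ∈ J, ∀ b ∈ J, a * b = b * a
  cube : ∀ a ∈ J, a * (a * a) = 1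
  card : Nat.card J = 27
  self : ∀ g : G, (∀ j ∈ J, g * j = j * g) → g ∈ J
  thin : ∀ g ∈ normalizer (J : Set G), g ^ 3 ∈ J → g ∉ J → ∀ a ∈ J, ∀ b ∈ J,
    g * a = a * g → g * b = b * g → a ≠ 1 → b ∈ zpowers a
  sig : ∀ K : Subgroup G, (Nat.card K).Coprime 3 → (∀ j ∈ J, ∀ k ∈ K, j * k * j⁻¹ ∈ K) → K = ⊥

namespace Ctx

variable {G : Type u} [Group G] [Finite G] (S : Ctx G)

theorem order_three {a : G} (ha : a ∈ S.J) (h1 : a ≠ 1) : orderOf a = 3 := by
  have : Fact (Nat.Prime 3) := ⟨Nat.prime_three⟩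
  exact orderOf_eq_prime (by rw [pow_succ', pow_two, S.cube a ha]) h1

theorem isPGroup : IsPGroup 3 S.J := IsPGroup.of_card (n := 3) (by rw [S.card]; norm_num)

/-- Nothing of order prime to three survives in a central quotient of an overgroup. -/
theorem quot_sig {H : Subgroup G} (hJH : S.J ≤ H) {M : Type*} [Group M] (π : H →* M)
    (hπ : Function.Surjective π) (hc : π.ker ≤ center H) (hp : IsPGroup 3 π.ker)
    (A : Subgroup M) (hA : (Nat.card A).Coprime 3)
    (hnorm : ∀ j : H, (j : G) ∈ S.J → ∀ x ∈ A, π j * x * (π j)⁻¹ ∈ A) : A = ⊥ := by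
  classical
  have : Fact (Nat.Prime 3) := ⟨Nat.prime_three⟩
  obtain ⟨B, hB⟩ : ∃ B : Subgroup H, B = A.comap π := ⟨_, rfl⟩
  have hker : π.ker ≤ B := fun x hx => by
    rw [hB, mem_comap, MonoidHom.mem_ker.1 hx]; exact one_mem _
  have hidx : (π.ker.subgroupOf B).index = Nat.card A := by
    have e : π.ker.subgroupOf B = ((π.domRestrict B).codRestrict A
        (fun x => by simpa [hB] using x.2)).ker := by
      ext x; simp [mem_subgroupOf, MonoidHom.mem_ker, Subtype.ext_iff]
    rw [e, index_ker, MonoidHom.range_eq_top_of_surjective, card_top]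
    rintro ⟨a, ha⟩
    obtain ⟨x, rfl⟩ := hπ a
    exact ⟨⟨x, by simpa [hB] using ha⟩, rfl⟩
  obtain ⟨k, hk⟩ := IsPGroup.iff_card.1 hp
  have hco : (Nat.card (π.ker.subgroupOf B)).Coprime (π.ker.subgroupOf B).index := by
    rw [hidx, Nat.card_congr (subgroupOfEquivOfLe hker).toEquiv, hk]
    exact Nat.Coprime.pow_left k hA.symm
  obtain ⟨K, hK⟩ := exists_right_complement'_of_coprime hco
  have hKc : Nat.card K = Nat.card A := by rw [← hidx, hK.symm.index_eq_card]
  obtain ⟨L, hL⟩ : ∃ L : Subgroup G, L = (K.map B.subtype).map H.subtype := ⟨_, rfl⟩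
  have hLc : Nat.card L = Nat.card A := by
    rw [hL, card_map_of_injective H.subtype_injective, card_map_of_injective B.subtype_injective, hKc]
  have hmem : ∀ x : H, x ∈ B → x ^ Nat.card A = 1 → (x : G) ∈ L := by
    intro x hx hxm
    obtain ⟨⟨z, y⟩, hzy, -⟩ := hK.existsUnique ⟨x, hx⟩
    replace hzy : (z : B) * (y : B) = ⟨x, hx⟩ := hzy
    have hcomm : Commute (z : B) (y : B) := by
      apply Subtype.ext
      exact (mem_center_iff.1 (hc (mem_subgroupOf.1 z.2)) ((y : B) : H)).symm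
    have h1 : (z : B) ^ Nat.card A = 1 := by
      have h : ((z : B) * (y : B)) ^ Nat.card A = 1 := by
        rw [hzy]; exact Subtype.ext hxm
      rw [hcomm.mul_pow, ← hKc] at h
      rw [← hKc]
      rwa [show (y : B) ^ Nat.card K = 1 from congrArg Subtype.val (pow_card_eq_one' (x := y)), mul_one] at h
    have h2 : (z : B) ^ Nat.card (π.ker.subgroupOf B) = 1 :=
      congrArg Subtype.val (pow_card_eq_one' (x := z))
    have hz : (z : B) = 1 := by
      have hg := Nat.dvd_gcd (orderOf_dvd_of_pow_eq_one h2) (orderOf_dvd_of_pow_eq_one h1)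
      rw [← hidx, hco.gcd_eq_one] at hg
      exact orderOf_eq_one_iff.1 (Nat.dvd_one.1 hg)
    rw [hz, one_mul] at hzy
    rw [hL]
    exact ⟨x, ⟨⟨x, hx⟩, hzy ▸ y.2, rfl⟩, rfl⟩
  have hLbot : L = ⊥ := by
    refine S.sig L (hLc ▸ hA) fun j hj x hx => ?_
    obtain ⟨_, ⟨y, hy, rfl⟩, rfl⟩ := hL ▸ hx
    refine hmem (⟨j, hJH hj⟩ * (y : H) * ⟨j, hJH hj⟩⁻¹) ?_ ?_
    · have hy' : π (y : H) ∈ A := mem_comap.1 ((le_of_eq hB) y.2)
      refine (le_of_eq hB.symm) (mem_comap.2 ?_)
      rw [map_mul, map_mul, map_inv]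
      exact hnorm ⟨j, hJH hj⟩ hj _ hy'
    · rw [conj_pow, ← hKc]
      have : ((y : B) : H) ^ Nat.card K = 1 := by
        rw [← SubgroupClass.coe_pow, show (y : B) ^ Nat.card K = 1 from
          congrArg Subtype.val (pow_card_eq_one' (x := (⟨y, hy⟩ : K))), OneMemClass.coe_one]
      rw [this, mul_one, mul_inv_cancel]
  rw [← card_eq_one, ← hLc, hLbot, card_bot]

theorem plane {v w : G} (hv : v ∈ S.J) (hw : w ∈ S.J) (hv1 : v ≠ 1) (hwv : w ∉ zpowers v) {g : G}
    (hgv : g * v = v * g) (hgw : g * w = w * g) : g ∈ normalizer (S.J : Set G) := by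
  classical
  have : Fact (Nat.Prime 3) := ⟨Nat.prime_three⟩
  obtain ⟨H, hH⟩ : ∃ H : Subgroup G, H = centralizer ({v, w} : Set G) := ⟨_, rfl⟩
  have memH : ∀ {x : G}, x ∈ H ↔ x * v = v * x ∧ x * w = w * x := fun {x} => by
    rw [hH, mem_centralizer_iff]
    simp only [Set.mem_insert_iff, Set.mem_singleton_iff, forall_eq_or_imp, forall_eq]
    exact ⟨fun h => ⟨h.1.symm, h.2.symm⟩, fun h => ⟨h.1.symm, h.2.symm⟩⟩
  have hJH : S.J ≤ H := fun j hj => memH.2 ⟨S.comm j hj v hv, S.comm j hj w hw⟩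
  obtain ⟨E, hE⟩ : ∃ E : Subgroup G, E = zpowers v ⊔ zpowers w := ⟨_, rfl⟩
  have hEJ : E ≤ S.J := hE ▸ sup_le (zpowers_le.2 hv) (zpowers_le.2 hw)
  have hEc : ∀ x ∈ H, ∀ e ∈ E, x * e = e * x := by
    intro x hx
    have hle : E ≤ centralizer ({x} : Set G) := hE ▸ sup_le
      (zpowers_le.2 (mem_centralizer_singleton_iff.2 (memH.1 hx).1.symm))
      (zpowers_le.2 (mem_centralizer_singleton_iff.2 (memH.1 hx).2.symm))
    exact fun e he => (mem_centralizer_singleton_iff.1 (hle he)).symm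
  obtain ⟨Z, hZ⟩ : ∃ Z : Subgroup H, Z = E.subgroupOf H := ⟨_, rfl⟩
  have hZc : Z ≤ center H := fun z hz => mem_center_iff.2 fun x =>
    Subtype.ext (hEc x x.2 z (mem_subgroupOf.1 (hZ ▸ hz)))
  haveI : Z.Normal := ⟨fun z hz x => by rw [mem_center_iff.1 (hZc hz) x, mul_inv_cancel_right]; exact hz⟩
  let π : H →* H ⧸ Z := QuotientGroup.mk' Z
  have hker : π.ker = Z := QuotientGroup.ker_mk' Z
  have hEp : IsPGroup 3 E := S.isPGroup.to_le hEJ
  have hZp : IsPGroup 3 π.ker := by
    rw [hker, hZ]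
    exact hEp.comap_of_injective H.subtype H.subtype_injective
  -- the order of `E`
  have hvo := S.order_three hv hv1
  have hvE : zpowers v ≤ E := hE ▸ le_sup_left
  have hwE : w ∈ E := hE ▸ (le_sup_right (a := zpowers v) (mem_zpowers w))
  obtain ⟨n, hn⟩ := IsPGroup.iff_card.1 hEp
  have hn2 : 2 ≤ n := by
    by_contra hcon
    refine hwv ?_
    have hle : Nat.card E ≤ Nat.card (zpowers v) := by
      rw [hn, Nat.card_zpowers, hvo]
      exact (Nat.pow_le_pow_right (by norm_num) (show n ≤ 1 by omega)).trans (by norm_num)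
    exact (Subgroup.eq_of_le_of_card_ge hvE hle).symm ▸ hwE
  -- centralised by everything mapped into the image of J
  have hlift : ∀ x : H, (∀ j ∈ S.J, x.1 * j * x.1⁻¹ * j⁻¹ ∈ E) → (x : G) ∈ S.J := by
    intro x hx
    have hxN : (x : G) ∈ normalizer (S.J : Set G) := by
      refine Subgroup.mem_normalizer_iff_map_conj_eq.2 (Subgroup.eq_of_le_of_card_ge ?_ ?_)
      · rintro _ ⟨j, hj, rfl⟩
        have h := S.J.mul_mem (hEJ (hx j hj)) hj
        rwa [inv_mul_cancel_right] at h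
      · rw [card_map_of_injective (MulAut.conj (x : G)).injective]
    have h3 : (x : G) ^ 3 ∈ S.J := by
      refine S.self _ fun j hj => ?_
      set e := x.1 * j * x.1⁻¹ * j⁻¹ with he
      have hce : x.1 * e = e * x.1 := hEc x x.2 e (hx j hj)
      have h1 : x.1 * j = e * j * x.1 := by rw [he]; group
      have e3 : e * (e * e) = 1 := S.cube e (hEJ (hx j hj))
      have hje : j * e = e * j := S.comm j hj e (hEJ (hx j hj))
      have c1 : MulAut.conj x.1 j = e * j := by simp [he, mul_assoc]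
      have c2 : MulAut.conj x.1 e = e := by
        rw [MulAut.conj_apply, hce, mul_inv_cancel_right]
      have c3 : MulAut.conj (x.1 ^ 3) j = j := by
        rw [map_pow, pow_succ, pow_two]
        simp only [MulAut.mul_apply, c1, map_mul, c2]
        rw [← mul_assoc e e j, ← mul_assoc e (e * e) j, e3, one_mul]
      rw [MulAut.conj_apply] at c3
      exact mul_inv_eq_iff_eq_mul.1 c3
    by_contra hxJ
    exact hwv (S.thin _ hxN h3 hxJ v hv w hw (memH.1 x.2).1 (memH.1 x.2).2 hv1)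
  obtain ⟨X, hXdef⟩ : ∃ X : Subgroup (H ⧸ Z), X = (S.J.subgroupOf H).map π := ⟨_, rfl⟩
  have hmemX : ∀ x : H, π x ∈ X ↔ (x : G) ∈ S.J := by
    intro x
    refine ⟨fun h => ?_, fun h => hXdef ▸ ⟨x, mem_subgroupOf.2 h, rfl⟩⟩
    obtain ⟨y, hy, hyx⟩ := hXdef ▸ h
    have : y⁻¹ * x ∈ Z := QuotientGroup.eq.1 hyx
    rw [hZ, mem_subgroupOf] at this
    have h2 := S.J.mul_mem (mem_subgroupOf.1 hy) (hEJ this)
    simpa using h2
  have hXc : Nat.card X * Nat.card E = 27 := by
    have hle : Z ≤ S.J.subgroupOf H := fun z hz => mem_subgroupOf.2 (hEJ (mem_subgroupOf.1 (hZ ▸ hz)))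
    have h := (Z.subgroupOf (S.J.subgroupOf H)).card_mul_index
    rw [Nat.card_congr (subgroupOfEquivOfLe hle).toEquiv, Nat.card_congr (subgroupOfEquivOfLe hJH).toEquiv,
      S.card, hZ, Nat.card_congr (subgroupOfEquivOfLe (hEJ.trans hJH)).toEquiv, ← hZ] at h
    have he : (π.domRestrict (S.J.subgroupOf H)).ker = Z.subgroupOf (S.J.subgroupOf H) := by
      ext x; simp [mem_subgroupOf, MonoidHom.mem_ker, π]
    have hr : (π.domRestrict (S.J.subgroupOf H)).range = X := by rw [hXdef, MonoidHom.domRestrict_range]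
    rw [← he, index_ker, hr] at h
    linarith
  have hE9 : Nat.card E ≤ 9 := by
    have hw1 : w ≠ 1 := fun e => hwv (e ▸ one_mem _)
    have hcomm : ∀ (a : zpowers v) (b : zpowers w), Commute ((zpowers v).subtype a) ((zpowers w).subtype b) :=
      fun a b => S.comm a (zpowers_le.2 hv a.2) b (zpowers_le.2 hw b.2)
    have e : ((zpowers v).subtype.noncommCoprod (zpowers w).subtype hcomm).range = E := by
      rw [MonoidHom.noncommCoprod_range, range_subtype, range_subtype, hE]
    rw [← e]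
    refine le_trans (Nat.card_le_card_of_surjective _
      ((zpowers v).subtype.noncommCoprod (zpowers w).subtype hcomm).rangeRestrict_surjective) ?_
    rw [Nat.card_prod, Nat.card_zpowers, Nat.card_zpowers, hvo, S.order_three hw hw1]
  have hn9 : Nat.card E = 9 := by
    have : n ≤ 2 := (Nat.pow_le_pow_iff_right (show 1 < 3 by norm_num)).1 (by rw [← hn]; exact hE9)
    rw [hn, show n = 2 by omega]; norm_num
  have hX3 : Nat.card X = 3 := by rw [hn9] at hXc; omega
  have hcent : centralizer (X : Set (H ⧸ Z)) = X := by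
    refine le_antisymm (fun q hq => ?_) (fun q hq => mem_centralizer_iff.2 fun y hy => ?_)
    · obtain ⟨x, rfl⟩ := QuotientGroup.mk'_surjective Z q
      refine (hmemX x).2 (hlift x fun j hj => ?_)
      have h := mem_centralizer_iff.1 hq (π ⟨j, hJH hj⟩) ((hmemX _).2 hj)
      have h2 : π (x * ⟨j, hJH hj⟩ * x⁻¹ * ⟨j, hJH hj⟩⁻¹) = 1 := by
        rw [map_mul, map_mul, map_mul, map_inv, map_inv, ← h, mul_inv_cancel_right, mul_inv_cancel]
      have h3 := (QuotientGroup.eq_one_iff _).1 h2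
      rw [hZ, mem_subgroupOf] at h3
      exact h3
    · obtain ⟨a, ha, rfl⟩ := hXdef ▸ hy
      obtain ⟨b, hb, rfl⟩ := hXdef ▸ hq
      rw [← map_mul, ← map_mul]
      exact congrArg π (Subtype.ext (S.comm _ (mem_subgroupOf.1 ha) _ (mem_subgroupOf.1 hb)))
  have hnor : X.Normal := normal_of_no_invariant X hX3 hcent fun A hA hAX =>
    S.quot_sig hJH π (QuotientGroup.mk'_surjective Z) (hker.le.trans hZc) hZp A hA fun j hj x hx =>
      hAX _ ((hmemX j).2 hj) x hx
  refine Subgroup.mem_normalizer_iff_map_conj_eq.2 (Subgroup.eq_of_le_of_card_ge ?_ ?_)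
  · rintro _ ⟨j, hj, rfl⟩
    have hg : g ∈ H := memH.2 ⟨hgv, hgw⟩
    have h := hnor.conj_mem _ ((hmemX ⟨j, hJH hj⟩).2 hj) (π ⟨g, hg⟩)
    rw [← map_inv, ← map_mul, ← map_mul] at h
    exact (hmemX _).1 h
  · rw [card_map_of_injective (MulAut.conj g).injective]

end Ctx

end Cfsg.Lib.RankThree
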