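import Mathlib
import Cfsg.Agent.S3331

/-!
A group with a self-centralising subgroup of order three, whose only subgroup of order prime to
three normalised by it is trivial, normalises it.
-/

set_option autoImplicit false
set_option maxRecDepth 8000

namespace Cfsg.Lib.RankThree

open Subgroup
open scoped MatrixGroups Pointwise

universe u

/-- A four-group moved cyclically by `s`. -/
def Cyc {M : Type*} [Group M] (s a : M) : Prop :=
  a ≠ 1 ∧ a * a = 1 ∧ a * (s * a * s⁻¹) = s * a * s⁻¹ * a ∧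
    s * (s * a * s⁻¹) * s⁻¹ = a * (s * a * s⁻¹)

theorem Cyc.map {M M' : Type*} [Group M] [Group M'] {s a : M} (h : Cyc s a) (f : M →* M')
    (hf : Function.Injective f) : Cyc (f s) (f a) := by
  obtain ⟨h1, h2, h3, h4⟩ := h
  refine ⟨fun e => h1 (hf (by rw [e, map_one])), by rw [← map_mul, h2, map_one], ?_, ?_⟩
  · simp only [← map_inv, ← map_mul, h3]
  · simp only [← map_inv, ← map_mul, h4]

theorem exists_cyc_five : ∀ s : alternatingGroup (Fin 5), s * (s * s) = 1 → s ≠ 1 → ∃ a, Cyc s a := by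
  unfold Cyc
  decide +kernel

def sMat : SL(2, ZMod 7) := ⟨!![2, 0; 0, 4], by decide +kernel⟩

def aMat : SL(2, ZMod 7) := ⟨!![3, 1; 4, 4], by decide +kernel⟩

theorem mat_facts : sMat * (sMat * sMat) = 1 ∧ sMat * sMat⁻¹ = 1 ∧ aMat * aMat = -1 ∧
    aMat * (sMat * aMat * sMat⁻¹) = -(sMat * aMat * sMat⁻¹ * aMat) ∧
    (sMat * (sMat * aMat * sMat⁻¹) * sMat⁻¹ = aMat * (sMat * aMat * sMat⁻¹) ∨
      sMat * (sMat * aMat * sMat⁻¹) * sMat⁻¹ = -(aMat * (sMat * aMat * sMat⁻¹))) ∧
    (∀ x : ZMod 7, x • (1 : Matrix (Fin 2) (Fin 2) (ZMod 7)) ≠ sMat.1) ∧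
    (∀ x : ZMod 7, x • (1 : Matrix (Fin 2) (Fin 2) (ZMod 7)) ≠ aMat.1) := by
  decide +kernel

theorem exists_cyc_seven :
    ∃ s a : Matrix.ProjectiveSpecialLinearGroup (Fin 2) (ZMod 7), orderOf s = 3 ∧ Cyc s a := by
  have : Fact (Nat.Prime 7) := ⟨by norm_num⟩
  obtain ⟨h1, -, h3, h4, h5, hs, ha⟩ := mat_facts
  let q : SL(2, ZMod 7) →* Matrix.ProjectiveSpecialLinearGroup (Fin 2) (ZMod 7) :=
    QuotientGroup.mk' (center SL(2, ZMod 7))
  have hneg : (-1 : SL(2, ZMod 7)) ∈ center SL(2, ZMod 7) := mem_center_iff.2 fun g => by simp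
  have hq : q (-1) = 1 := (QuotientGroup.eq_one_iff _).2 hneg
  have hqn : ∀ x : SL(2, ZMod 7), q (-x) = q x := fun x => by
    rw [← neg_one_mul x, map_mul, hq, one_mul]
  have hne : ∀ x : SL(2, ZMod 7), (∀ r : ZMod 7, r • (1 : Matrix (Fin 2) (Fin 2) (ZMod 7)) ≠ x.1) → q x ≠ 1 := by
    intro x hx e
    obtain ⟨r, -, hr⟩ := Matrix.SpecialLinearGroup.mem_center_iff.1 ((QuotientGroup.eq_one_iff x).1 e)
    exact hx r (by rw [← hr, Matrix.scalar_apply, Matrix.smul_one_eq_diagonal])
  refine ⟨q sMat, q aMat, ?_, hne _ ha, by rw [← map_mul, h3, hq], ?_, ?_⟩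
  · exact orderOf_eq_prime (by rw [pow_succ', pow_two, ← map_mul, ← map_mul, h1, map_one]) (hne _ hs)
  · simp only [← map_inv, ← map_mul, h4, hqn]
  · rcases h5 with e | e <;> simp only [← map_inv, ← map_mul, e, hqn]

variable {M : Type u} [Group M] [Finite M]

/-- The four-group spanned by a cyclically moved involution is normalised. -/
theorem Cyc.exists_subgroup {s a : M} (h : Cyc s a) :
    ∃ A : Subgroup M, A ≠ ⊥ ∧ (Nat.card A).Coprime 3 ∧ ∀ x ∈ A, s * x * s⁻¹ ∈ A := by
  obtain ⟨h1, h2, h3, h4⟩ := h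
  set b := s * a * s⁻¹ with hb
  have hb2 : b * b = 1 := by rw [hb]; calc _ = s * (a * a) * s⁻¹ := by group
                                          _ = 1 := by rw [h2]; group
  let A : Subgroup M :=
    { carrier := {x | x = 1 ∨ x = a ∨ x = b ∨ x = a * b}
      one_mem' := Or.inl rfl
      mul_mem' := by
        have k1 : a * (a * b) = b := by rw [← mul_assoc, h2, one_mul]
        have k2 : b * (a * b) = a := by rw [← mul_assoc, ← h3, mul_assoc, hb2, mul_one]
        have k3 : a * b * a = b := by rw [mul_assoc, ← h3, k1]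
        have k4 : a * b * b = a := by rw [mul_assoc, hb2, mul_one]
        have k5 : a * b * (a * b) = 1 := by rw [mul_assoc, k2, h2]
        rintro x y (rfl | rfl | rfl | rfl) (rfl | rfl | rfl | rfl) <;>
          simp [h2, hb2, k1, k2, k3, k4, k5, ← h3]
      inv_mem' := by
        have k5 : (a * b)⁻¹ = a * b := inv_eq_of_mul_eq_one_right (by
          rw [mul_assoc, ← mul_assoc b a b, ← h3, mul_assoc a b b, hb2, mul_one, h2])
        rintro x (rfl | rfl | rfl | rfl)
        · exact Or.inl inv_one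
        · exact Or.inr (Or.inl (inv_eq_of_mul_eq_one_right h2))
        · exact Or.inr (Or.inr (Or.inl (inv_eq_of_mul_eq_one_right hb2)))
        · exact Or.inr (Or.inr (Or.inr k5)) }
  have hA : ∀ x : A, x ^ 2 = 1 := by
    rintro ⟨x, hx⟩
    apply Subtype.ext
    show x ^ 2 = 1
    rcases hx with rfl | rfl | rfl | rfl
    · exact one_pow 2
    · rw [pow_two, h2]
    · rw [pow_two, hb2]
    · rw [pow_two, mul_assoc, ← mul_assoc b a b, ← h3, mul_assoc a b b, hb2, mul_one, h2]
  refine ⟨A, fun e => h1 ?_, ?_, ?_⟩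
  · have : a ∈ A := Or.inr (Or.inl rfl)
    rwa [e, mem_bot] at this
  · have h2A : IsPGroup 2 A := fun x => ⟨1, by rw [pow_one]; exact hA x⟩
    have : Fact (Nat.Prime 2) := ⟨Nat.prime_two⟩
    obtain ⟨n, hn⟩ := IsPGroup.iff_card.1 h2A
    rw [hn]
    exact Nat.Coprime.pow_left n (by norm_num)
  · rintro x (rfl | rfl | rfl | rfl)
    · exact Or.inl (by group)
    · exact Or.inr (Or.inr (Or.inl rfl))
    · exact Or.inr (Or.inr (Or.inr h4))
    · exact Or.inr (Or.inl (by
        rw [show s * (a * b) * s⁻¹ = s * a * s⁻¹ * (s * b * s⁻¹) by group, ← hb, h4, ← mul_assoc, ← h3,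
          mul_assoc, hb2, mul_one]))

/-- A self-centralising subgroup of order three without invariant subgroups of order prime to
three is normal. -/
theorem normal_of_no_invariant (X : Subgroup M) (hX : Nat.card X = 3) (hC : centralizer (X : Set M) = X)
    (hinv : ∀ A : Subgroup M, (Nat.card A).Coprime 3 → (∀ y ∈ X, ∀ x ∈ A, y * x * y⁻¹ ∈ A) → A = ⊥) :
    X.Normal := by
  classical
  have : Fact (Nat.Prime 3) := ⟨Nat.prime_three⟩
  have hbot : ∀ N : Subgroup M, N.Normal → (Nat.card N).Coprime 3 → N = ⊥ := fun N hN hcop =>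
    hinv N hcop fun y _ x hx => hN.conj_mem x hx y
  have hgenX : ∀ s ∈ X, s ≠ 1 → ∀ y ∈ X, ∃ n : ℕ, s ^ n = y := fun s hs hs1 y hy => by
    obtain ⟨n, hn⟩ := mem_powers_of_prime_card (g := (⟨s, hs⟩ : X)) (g' := ⟨y, hy⟩) hX
      (fun e => hs1 (congrArg Subtype.val e))
    exact ⟨n, congrArg Subtype.val hn⟩
  have hkill : ∀ s ∈ X, s ≠ 1 → ∀ a : M, ¬ Cyc s a := by
    intro s hs hs1 a h
    obtain ⟨A, hA, hcop, hconj⟩ := h.exists_subgroup
    refine hA (hinv A hcop fun y hy x hx => ?_)
    obtain ⟨n, rfl⟩ := hgenX s hs hs1 y hy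
    clear hy
    induction n with
    | zero => simpa using hx
    | succ n ih =>
      rw [pow_succ', show s * s ^ n * x * (s * s ^ n)⁻¹ = s * (s ^ n * x * (s ^ n)⁻¹) * s⁻¹ by group]
      exact hconj _ ih
  obtain ⟨x₀, hx₀, hx₀1⟩ : ∃ x ∈ X, x ≠ 1 := by
    refine X.bot_or_exists_ne_one.resolve_left fun e => ?_
    rw [e, card_bot] at hX
    omega
  have hx₀3 : x₀ * (x₀ * x₀) = 1 := by
    have h : (⟨x₀, hx₀⟩ : X) ^ 3 = 1 := hX ▸ pow_card_eq_one'
    rw [pow_succ', pow_two] at h
    exact congrArg Subtype.val h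
  rcases Cfsg.Agent.S3331.result X hX hC with
    ⟨N, hN, -, hcop, hq⟩ | ⟨N, hN, -, hsq, ⟨e⟩⟩ | ⟨⟨e⟩⟩
  · have hb := hbot N hN hcop
    have hM : Nat.card M = 3 ∨ Nat.card M = 6 := by
      have h := N.card_eq_card_quotient_mul_card_subgroup
      rw [show Nat.card N = 1 by rw [hb, card_bot], mul_one] at h
      rcases hq with e | he
      · exact Or.inl (h.trans e)
      · obtain ⟨e⟩ := he
        refine Or.inr (h.trans ((Nat.card_congr e.toEquiv).trans ?_))
        rw [Nat.card_eq_fintype_card, Fintype.card_perm, Fintype.card_fin]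
        rfl
    have hidx := X.card_mul_index
    rw [hX] at hidx
    rcases hM with e | e <;> rw [e] at hidx
    · rw [index_eq_one.1 (show X.index = 1 by omega)]
      infer_instance
    · exact normal_of_index_eq_two (show X.index = 2 by omega)
  · exfalso
    have hb : N = ⊥ := by
      refine hbot N hN ?_
      have : Fact (Nat.Prime 2) := ⟨Nat.prime_two⟩
      obtain ⟨n, hn⟩ := IsPGroup.iff_card.1
        (show IsPGroup 2 N from fun x => ⟨1, Subtype.ext (by rw [pow_one]; exact hsq x x.2)⟩)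
      rw [hn]
      exact Nat.Coprime.pow_left n (by norm_num)
    subst hb
    let f : M ≃* alternatingGroup (Fin 5) := (QuotientGroup.quotientBot (G := M)).symm.trans e
    obtain ⟨a, ha⟩ := exists_cyc_five (f x₀) (by rw [← map_mul, ← map_mul, hx₀3, map_one])
      (fun h => hx₀1 (f.injective (h.trans (map_one f).symm)))
    refine hkill x₀ hx₀ hx₀1 (f.symm a) ?_
    have := ha.map f.symm.toMonoidHom f.symm.injective
    simpa using this
  · exfalso
    obtain ⟨s, a, hs, ha⟩ := exists_cyc_seven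
    have hcy := ha.map e.symm.toMonoidHom e.symm.injective
    have hM : ¬ 9 ∣ Nat.card M := by
      rw [Nat.card_congr e.toEquiv]
      intro h
      have hcard : Nat.card (Matrix.ProjectiveSpecialLinearGroup (Fin 2) (ZMod 7)) ∣ Nat.card SL(2, ZMod 7) :=
        card_quotient_dvd_card _
      have h336 : Nat.card SL(2, ZMod 7) = 336 := by
        rw [Nat.card_eq_fintype_card]; decide +kernel
      have := h.trans (h336 ▸ hcard)
      norm_num at this
    let P : Sylow 3 M := Sylow.ofCard X (by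
      have h1 : 3 ∣ Nat.card M := hX ▸ card_subgroup_dvd_card X
      have h2 : (Nat.card M).factorization 3 = 1 := by
        have hp := Nat.Prime.pow_dvd_iff_le_factorization Nat.prime_three (Nat.card_pos (α := M)).ne'
          (k := 1)
        have hp2 := Nat.Prime.pow_dvd_iff_le_factorization Nat.prime_three (Nat.card_pos (α := M)).ne'
          (k := 2)
        have a1 := hp.1 (by simpa using h1)
        have a2 : ¬ 2 ≤ (Nat.card M).factorization 3 := fun h => hM (by simpa using hp2.2 h)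
        omega
      rw [hX, h2, pow_one])
    have hs' : orderOf (e.symm s) = 3 := by
      rw [MulEquiv.orderOf_eq, hs]
    obtain ⟨Q, hQ⟩ := (IsPGroup.of_card (p := 3) (n := 1)
      (show Nat.card (zpowers (e.symm s)) = 3 ^ 1 by rw [Nat.card_zpowers, hs', pow_one])).exists_le_sylow
    obtain ⟨g, hg⟩ := MulAction.exists_smul_eq M Q P
    have hmem : g * e.symm s * g⁻¹ ∈ X := by
      have h := Subgroup.smul_mem_pointwise_smul (e.symm s) (MulAut.conj g) _ (hQ (mem_zpowers _))
      have hX' : ((MulAut.conj g • (Q : Subgroup M)) : Subgroup M) = X := by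
        show _ = (P : Subgroup M)
        rw [← hg, Sylow.coe_subgroup_smul]
      rw [hX'] at h
      exact h
    refine hkill _ hmem (fun h => ?_) _ (hcy.map (MulAut.conj g).toMonoidHom (MulAut.conj g).injective)
    have h0 : e.symm s = 1 := conj_eq_one_iff.1 h
    rw [h0, orderOf_one] at hs'
    omega

end Cfsg.Lib.RankThree
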