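import Cfsg.Agent.LocalThree.RankThree.Basic
import Cfsg.Agent.Components.Cores

/-!
The centraliser of one element of the abelian subgroup, modulo that element: a Sylow subgroup of
order nine, equal to its centraliser, whose normaliser contains all centralisers.
-/

set_option autoImplicit false
set_option maxRecDepth 8000

namespace Cfsg.Lib.RankThree

open Subgroup

universe u

/-- The data of the quotient of a centraliser. -/
structure PointData {G : Type u} [Group G] (S : Ctx G) (v : G) where
  M : Type u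
  grp : Group M
  fin : Finite M
  π : centralizer ({v} : Set G) →* M
  surj : Function.Surjective π
  ker : ∀ x, π x = 1 ↔ (x : G) ∈ zpowers v
  P : Sylow 3 M
  memP : ∀ x, π x ∈ (P : Subgroup M) ↔ (x : G) ∈ S.J
  card9 : Nat.card (P : Subgroup M) = 9
  self : centralizer ((P : Subgroup M) : Set M) = P
  memN : ∀ x, π x ∈ normalizer ((P : Subgroup M) : Set M) ↔ (x : G) ∈ normalizer (S.J : Set G)
  cent : ∀ p ∈ (P : Subgroup M), p ≠ 1 → centralizer ({p} : Set M) ≤ normalizer ((P : Subgroup M) : Set M)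
  core : Cfsg.pPrimeCore 3 M = ⊥

attribute [instance] PointData.grp PointData.fin

namespace Ctx

variable {G : Type u} [Group G] [Finite G] (S : Ctx G)

theorem exists_pointData {v : G} (hv : v ∈ S.J) (hv1 : v ≠ 1)
    (hsyl : ∀ g ∈ normalizer (S.J : Set G), g * v = v * g → g ^ 3 ∈ S.J → g ∈ S.J) :
    Nonempty (PointData S v) := by
  classical
  have : Fact (Nat.Prime 3) := ⟨Nat.prime_three⟩
  obtain ⟨H, hH⟩ : ∃ H : Subgroup G, H = centralizer ({v} : Set G) := ⟨_, rfl⟩
  subst hH
  set H : Subgroup G := centralizer ({v} : Set G) with hHdef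
  have memH : ∀ {x : G}, x ∈ H ↔ x * v = v * x := fun {x} => mem_centralizer_singleton_iff
  have hJH : S.J ≤ H := fun j hj => memH.2 (S.comm j hj v hv)
  obtain ⟨Z, hZ⟩ : ∃ Z : Subgroup H, Z = (zpowers v).subgroupOf H := ⟨_, rfl⟩
  have hvJ : zpowers v ≤ S.J := zpowers_le.2 hv
  have hpowv : ∀ z ∈ zpowers v, ∀ x ∈ H, x * z = z * x := by
    intro z hz x hx
    have hle : zpowers v ≤ centralizer ({x} : Set G) :=
      zpowers_le.2 (mem_centralizer_singleton_iff.2 (memH.1 hx).symm)
    exact (mem_centralizer_singleton_iff.1 (hle hz)).symm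
  have hZc : Z ≤ center H := fun z hz => mem_center_iff.2 fun x =>
    Subtype.ext (hpowv z (mem_subgroupOf.1 (hZ ▸ hz)) x x.2)
  haveI : Z.Normal := ⟨fun z hz x => by rw [mem_center_iff.1 (hZc hz) x, mul_inv_cancel_right]; exact hz⟩
  let π : H →* H ⧸ Z := QuotientGroup.mk' Z
  have hsurj : Function.Surjective π := QuotientGroup.mk'_surjective Z
  have hker : π.ker = Z := QuotientGroup.ker_mk' Z
  have hkerv : ∀ x : H, π x = 1 ↔ (x : G) ∈ zpowers v := fun x => by
    rw [← MonoidHom.mem_ker, hker, hZ, mem_subgroupOf]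
  -- elements of order three in the normaliser and the centraliser
  have hpJ : ∀ {g : G}, g ∈ normalizer (S.J : Set G) → g ∈ H → g ^ 3 ∈ S.J → g ∈ S.J :=
    fun hgN hgH hg3 => hsyl _ hgN (memH.1 hgH) hg3
  -- the image
  let X : Subgroup (H ⧸ Z) := (S.J.subgroupOf H).map π
  have hmemX : ∀ x : H, π x ∈ X ↔ (x : G) ∈ S.J := by
    intro x
    refine ⟨fun h => ?_, fun h => ⟨x, mem_subgroupOf.2 h, rfl⟩⟩
    obtain ⟨y, hy, hyx⟩ := h
    have h1 : π (y⁻¹ * x) = 1 := by rw [map_mul, map_inv, hyx, inv_mul_cancel]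
    have h2 := S.J.mul_mem (mem_subgroupOf.1 hy) (hvJ ((hkerv _).1 h1))
    simpa using h2
  have hXp : IsPGroup 3 X := (S.isPGroup.comap_of_injective H.subtype H.subtype_injective).map π
  have hnormX : ∀ x : H, π x ∈ normalizer (X : Set (H ⧸ Z)) ↔ (x : G) ∈ normalizer (S.J : Set G) := by
    intro x
    rw [mem_normalizer_iff]
    constructor
    · intro h
      refine mem_normalizer_iff.2 fun j => ?_
      constructor
      · intro hj
        have := (h (π ⟨j, hJH hj⟩)).1 ((hmemX _).2 hj)
        rw [← map_inv, ← map_mul, ← map_mul] at this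
        exact (hmemX _).1 this
      · intro hj
        have hjH : j ∈ H := by
          have := H.mul_mem (H.mul_mem (H.inv_mem x.2) (hJH hj)) x.2
          simpa [mul_assoc] using this
        refine (hmemX ⟨j, hjH⟩).1 ((h (π ⟨j, hjH⟩)).2 ?_)
        rw [← map_inv, ← map_mul, ← map_mul]
        exact (hmemX _).2 hj
    · intro h q
      obtain ⟨y, rfl⟩ := hsurj q
      rw [← map_inv, ← map_mul, ← map_mul, hmemX, hmemX]
      exact mem_normalizer_iff.1 h y
  have hX9 : Nat.card X = 9 := by
    have hZle : Z ≤ S.J.subgroupOf H := fun z hz => mem_subgroupOf.2 (hvJ (mem_subgroupOf.1 (hZ ▸ hz)))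
    have h := (Z.subgroupOf (S.J.subgroupOf H)).card_mul_index
    rw [Nat.card_congr (subgroupOfEquivOfLe hZle).toEquiv, Nat.card_congr (subgroupOfEquivOfLe hJH).toEquiv,
      S.card, hZ, Nat.card_congr (subgroupOfEquivOfLe (hvJ.trans hJH)).toEquiv, ← hZ,
      Nat.card_zpowers, S.order_three hv hv1] at h
    have he : (π.domRestrict (S.J.subgroupOf H)).ker = Z.subgroupOf (S.J.subgroupOf H) := by
      ext x; simp [mem_subgroupOf, MonoidHom.mem_ker, π]
    have hr : (π.domRestrict (S.J.subgroupOf H)).range = X := MonoidHom.domRestrict_range _ _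
    rw [← he, index_ker, hr] at h
    omega
  obtain ⟨P, hP⟩ := hXp.exists_le_sylow
  have hPX : (P : Subgroup (H ⧸ Z)) = X := by
    refine le_antisymm ?_ hP
    haveI : Group.IsNilpotent (P : Subgroup (H ⧸ Z)) := P.2.isNilpotent
    have hN : ∀ q ∈ (P : Subgroup (H ⧸ Z)), q ∈ normalizer (X : Set (H ⧸ Z)) → q ∈ X := by
      intro q hq hqN
      obtain ⟨x, rfl⟩ := hsurj q
      obtain ⟨k, hk⟩ := P.2 ⟨π x, hq⟩
      have hk' : π (x ^ 3 ^ k) = 1 := by rw [map_pow]; exact congrArg Subtype.val hk
      have hdown : ∀ m, (x : G) ^ 3 ^ m ∈ S.J → (x : G) ∈ S.J := by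
        intro m
        induction m with
        | zero => intro h; simpa using h
        | succ m ih =>
          intro h
          refine ih (hpJ (pow_mem ((hnormX x).1 hqN) _) (H.pow_mem x.2 _) ?_)
          rwa [← pow_mul, ← pow_succ]
      exact (hmemX x).2 (hdown k (by simpa using hvJ ((hkerv _).1 hk')))
    have htop : X.subgroupOf (P : Subgroup (H ⧸ Z)) = ⊤ := by
      refine normalizerCondition_iff_only_full_group_self_normalizing.1 Group.normalizerCondition_of_isNilpotent _
        (le_antisymm (fun (g : (P : Subgroup (H ⧸ Z))) hg => mem_subgroupOf.2 (hN (g : H ⧸ Z) g.2 ?_))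
          Subgroup.le_normalizer)
      rw [mem_normalizer_iff]
      intro y
      constructor
      · intro hy
        exact mem_subgroupOf.1 ((mem_normalizer_iff.1 hg ⟨y, hP hy⟩).1 (mem_subgroupOf.2 hy))
      · intro hy
        have hyP : y ∈ (P : Subgroup (H ⧸ Z)) := by
          have := (P : Subgroup (H ⧸ Z)).mul_mem ((P : Subgroup (H ⧸ Z)).mul_mem
            ((P : Subgroup (H ⧸ Z)).inv_mem g.2) (hP hy)) g.2
          simpa [mul_assoc] using this
        exact mem_subgroupOf.1 ((mem_normalizer_iff.1 hg ⟨y, hyP⟩).2 (mem_subgroupOf.2 hy))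
    intro q hq
    exact mem_subgroupOf.1 (htop ▸ mem_top (⟨q, hq⟩ : (P : Subgroup (H ⧸ Z))))
  refine ⟨{
    M := H ⧸ Z, grp := inferInstance, fin := inferInstance, π := π, surj := hsurj, ker := hkerv, P := P
    memP := fun x => by rw [hPX]; exact hmemX x
    card9 := by rw [hPX]; exact hX9
    memN := fun x => by rw [hPX]; exact hnormX x
    self := ?_, cent := ?_, core := ?_ }⟩
  · refine le_antisymm (fun q hq => ?_) (fun q hq => mem_centralizer_iff.2 fun y hy => ?_)
    · obtain ⟨x, rfl⟩ := hsurj q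
      have hxN : (x : G) ∈ normalizer (S.J : Set G) := (hnormX x).1 (mem_normalizer_iff.2 fun y => by
        constructor
        · intro hy
          rw [← mem_centralizer_iff.1 hq y (by rw [hPX]; exact hy), mul_inv_cancel_right]; exact hy
        · intro hy
          have := mem_centralizer_iff.1 hq _ (by rw [hPX]; exact hy)
          have e : π x * y * (π x)⁻¹ = y :=
            mul_left_cancel (a := π x) (by
              calc π x * (π x * y * (π x)⁻¹) = π x * y * (π x)⁻¹ * π x := this.symm
                _ = π x * y := by group)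
          rwa [e] at hy)
      rw [hPX]
      refine (hmemX x).2 (hpJ hxN x.2 (S.self _ fun j hj => ?_))
      have h1 := mem_centralizer_iff.1 hq (π ⟨j, hJH hj⟩) (by rw [hPX]; exact (hmemX _).2 hj)
      have h2 : π (x * ⟨j, hJH hj⟩ * x⁻¹ * ⟨j, hJH hj⟩⁻¹) = 1 := by
        rw [map_mul, map_mul, map_mul, map_inv, map_inv, ← h1, mul_inv_cancel_right, mul_inv_cancel]
      have hev := (hkerv _).1 h2
      push_cast at hev
      set e := (x : G) * j * (x : G)⁻¹ * j⁻¹ with he
      have hce : (x : G) * e = e * x := hpowv e hev x x.2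
      have e3 : e * (e * e) = 1 := S.cube e (hvJ hev)
      have c1 : MulAut.conj (x : G) j = e * j := by simp [he, mul_assoc]
      have c2 : MulAut.conj (x : G) e = e := by rw [MulAut.conj_apply, hce, mul_inv_cancel_right]
      have c3 : MulAut.conj ((x : G) ^ 3) j = j := by
        rw [map_pow, pow_succ, pow_two]
        simp only [MulAut.mul_apply, c1, map_mul, c2]
        rw [← mul_assoc e e j, ← mul_assoc e (e * e) j, e3, one_mul]
      rw [MulAut.conj_apply] at c3
      exact mul_inv_eq_iff_eq_mul.1 c3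
    · rw [hPX] at hq hy
      obtain ⟨a, ha, rfl⟩ := hy
      obtain ⟨b, hb, rfl⟩ := hq
      rw [← map_mul, ← map_mul]
      exact congrArg π (Subtype.ext (S.comm _ (mem_subgroupOf.1 ha) _ (mem_subgroupOf.1 hb)))
  · rw [hPX]
    intro p hp hp1 q hq
    obtain ⟨a, ha, rfl⟩ := hp
    obtain ⟨x, rfl⟩ := hsurj q
    rw [hnormX]
    have haJ : (a : G) ∈ S.J := mem_subgroupOf.1 ha
    have hav : (a : G) ∉ zpowers v := fun h => hp1 ((hkerv a).2 h)
    have hconj : ∀ {g : G}, g * v = v * g → g * a * g⁻¹ * (a : G)⁻¹ ∈ zpowers v →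
        ∀ h : G, h * v = v * h → h * a = a * h → g * h * g⁻¹ * (g * a * g⁻¹) = g * a * g⁻¹ * (g * h * g⁻¹) := by
      intro g _ _ h _ hha
      calc g * h * g⁻¹ * (g * a * g⁻¹) = g * (h * a) * g⁻¹ := by group
        _ = _ := by rw [hha]; group
    have hev : (x : G) * a * (x : G)⁻¹ * (a : G)⁻¹ ∈ zpowers v := by
      refine (hkerv (x * a * x⁻¹ * a⁻¹)).1 ?_
      rw [map_mul, map_mul, map_mul, map_inv, map_inv, mem_centralizer_singleton_iff.1 hq, mul_inv_cancel_right,
        mul_inv_cancel]
    have hxv := memH.1 x.2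
    refine Subgroup.mem_normalizer_iff_map_conj_eq.2 (Subgroup.eq_of_le_of_card_ge ?_ ?_)
    · rintro _ ⟨j, hj, rfl⟩
      show (x : G) * j * (x : G)⁻¹ ∈ S.J
      have hjv : ((x : G) * j * (x : G)⁻¹) * v = v * ((x : G) * j * (x : G)⁻¹) :=
        memH.1 (H.mul_mem (H.mul_mem x.2 (hJH hj)) (H.inv_mem x.2))
      have hja : ((x : G) * j * (x : G)⁻¹) * a = a * ((x : G) * j * (x : G)⁻¹) := by
        have h1 := hconj hxv hev j (S.comm j hj v hv) (S.comm j hj a haJ)
        set e := (x : G) * a * (x : G)⁻¹ * (a : G)⁻¹ with he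
        rw [show (x : G) * a * (x : G)⁻¹ = e * a by rw [he]; group] at h1
        set y := (x : G) * j * (x : G)⁻¹ with hy
        have hye : y * e = e * y := hpowv e hev y (memH.2 hjv)
        refine mul_left_cancel (a := e) ?_
        calc e * (y * a) = y * (e * a) := by rw [← mul_assoc, ← hye, mul_assoc]
          _ = e * a * y := h1
          _ = e * (a * y) := mul_assoc _ _ _
      have hN := S.plane hv haJ hv1 hav hjv hja
      refine hpJ hN (memH.2 hjv) ?_
      rw [conj_pow, show j ^ 3 = 1 by rw [pow_succ', pow_two, S.cube j hj], mul_one, mul_inv_cancel]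
      exact one_mem _
    · rw [card_map_of_injective (MulAut.conj (x : G)).injective]
  · refine S.quot_sig hJH π hsurj (hker.le.trans hZc) ?_ _
      (Cfsg.Lib.Components.coprime_card_pPrimeCore 3) (fun j _ y hy => Subgroup.Normal.conj_mem inferInstance y hy _)
    rw [hker, hZ]
    exact (S.isPGroup.to_le hvJ).comap_of_injective H.subtype H.subtype_injective

end Ctx

end Cfsg.Lib.RankThree
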