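import Cfsg.Agent.LocalThree.RankThree.Point
import Cfsg.Agent.LocalThree.AltNineLocal.Three
import Cfsg.Agent.LocalThree.SymNineLocal.Nine
import Cfsg.Agent.AmalgamSpFour.Residual

/-!
The centraliser of a point whose automizer on the quotient of order nine has order two: the
Sylow subgroup of the quotient is normal.
-/

set_option autoImplicit false
set_option maxRecDepth 8000
set_option linter.unusedSectionVars false

namespace Cfsg.Lib.RankThree

open Subgroup Cfsg.Lib.AmalgamSpFour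
open scoped commutatorElement

universe u

section Abstract

variable {M : Type u} [Group M] [Finite M]

/-- A reflection as the only automorphism. -/
theorem refl_normal (S : Cfsg.Lib.SymNineLocal.Nine M) {s d p : M}
    (hd : d ∈ (S.P : Subgroup M)) (hp : p ∈ (S.P : Subgroup M)) (hd1 : d ≠ 1) (hpd : p ∉ zpowers d)
    (hsd : s * d * s⁻¹ = d⁻¹) (hsp : s * p * s⁻¹ = p)
    (hnorm : ∀ g ∈ normalizer ((S.P : Subgroup M) : Set M), g ∈ (S.P : Subgroup M) ∨ s⁻¹ * g ∈ (S.P : Subgroup M)) :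
    normalizer ((S.P : Subgroup M) : Set M) = ⊤ := by
  classical
  have : Fact (Nat.Prime 3) := ⟨Nat.prime_three⟩
  have hd3 : d ^ 3 = 1 := by rw [pow_three]; exact S.cube d hd
  have hod : orderOf d = 3 := orderOf_eq_prime hd3 hd1
  have hDP : zpowers d ≤ (S.P : Subgroup M) := zpowers_le.2 hd
  -- the commutators with the reflection lie on the line
  let U : Subgroup M :=
    { carrier := {x | x ∈ (S.P : Subgroup M) ∧ x * (s * x⁻¹ * s⁻¹) ∈ zpowers d}
      one_mem' := ⟨one_mem _, by simp⟩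
      mul_mem' := by
        rintro x y ⟨hx, hx'⟩ ⟨hy, hy'⟩
        refine ⟨mul_mem hx hy, ?_⟩
        have hc : x * (y * (s * y⁻¹ * s⁻¹)) = y * (s * y⁻¹ * s⁻¹) * x := S.comm hx (hDP hy')
        have e : x * y * (s * (x * y)⁻¹ * s⁻¹) = y * (s * y⁻¹ * s⁻¹) * (x * (s * x⁻¹ * s⁻¹)) := by
          calc x * y * (s * (x * y)⁻¹ * s⁻¹) = x * (y * (s * y⁻¹ * s⁻¹)) * (s * x⁻¹ * s⁻¹) := by group
            _ = _ := by rw [hc]; group
        rw [e]
        exact mul_mem hy' hx'
      inv_mem' := by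
        rintro x ⟨hx, hx'⟩
        refine ⟨inv_mem hx, ?_⟩
        have hc : x⁻¹ * (x * (s * x⁻¹ * s⁻¹)) = x * (s * x⁻¹ * s⁻¹) * x⁻¹ := S.comm (inv_mem hx) (hDP hx')
        have e : x⁻¹ * (s * x⁻¹⁻¹ * s⁻¹) = (x * (s * x⁻¹ * s⁻¹))⁻¹ := by
          calc x⁻¹ * (s * x⁻¹⁻¹ * s⁻¹) = (s * x⁻¹ * s⁻¹ * x)⁻¹ := by group
            _ = (x⁻¹ * (x * (s * x⁻¹ * s⁻¹)) * x)⁻¹ := by group
            _ = _ := by rw [hc, inv_mul_cancel_right]
        rw [e]
        exact inv_mem hx' }
  have hdU : d ∈ U := ⟨hd, by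
    have e : s * d⁻¹ * s⁻¹ = d := by rw [show s * d⁻¹ * s⁻¹ = (s * d * s⁻¹)⁻¹ by group, hsd, inv_inv]
    rw [e]; exact mul_mem (mem_zpowers d) (mem_zpowers d)⟩
  have hpU : p ∈ U := ⟨hp, by
    have e : s * p⁻¹ * s⁻¹ = p⁻¹ := by rw [show s * p⁻¹ * s⁻¹ = (s * p * s⁻¹)⁻¹ by group, hsp]
    rw [e, mul_inv_cancel]; exact one_mem _⟩
  have hUP : ∀ x ∈ (S.P : Subgroup M), x * (s * x⁻¹ * s⁻¹) ∈ zpowers d := by
    have hle : U ≤ (S.P : Subgroup M) := fun x hx => hx.1
    have hU : U = (S.P : Subgroup M) := by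
      refine Subgroup.eq_of_le_of_card_ge hle ?_
      rw [S.card9]
      have h9 : Nat.card U ∣ 3 ^ 2 := by
        rw [show (3 : ℕ) ^ 2 = Nat.card (S.P : Subgroup M) by rw [S.card9]; norm_num]
        exact card_dvd_of_le hle
      obtain ⟨k, hk, e⟩ := (Nat.dvd_prime_pow Nat.prime_three).1 h9
      have h3 : 3 < Nat.card U := by
        by_contra hlt
        exact hpd ((Subgroup.eq_of_le_of_card_ge (zpowers_le.2 hdU) (by rw [Nat.card_zpowers, hod]; omega)) ▸ hpU)
      have hk2 : k = 2 := by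
        interval_cases k
        all_goals simp_all
      rw [e, hk2]; norm_num
    exact fun x hx => ((le_of_eq hU.symm) hx).2
  obtain ⟨K, -, hKn, hKP, -, -, -⟩ := residual (p := 3) (H := (⊤ : Subgroup M)) le_top S.P.2
    (fun x hx y hy => S.comm hx hy)
    (by
      have h : ((S.P : Subgroup M).subgroupOf ⊤).index = (S.P : Subgroup M).index :=
        Subgroup.relIndex_top_right _
      rw [h]; exact S.P.not_dvd_index)
    hDP
    (fun x hx g _ hg => by
      have hgN : g ∈ normalizer ((S.P : Subgroup M) : Set M) := by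
        refine mem_normalizer_iff_map_conj_eq.2 (Subgroup.eq_of_le_of_card_ge ?_
          (le_of_eq (card_map_of_injective (MulAut.conj g).injective).symm))
        rintro _ ⟨y, hy, rfl⟩
        exact hg y hy
      rw [commutatorElement_def]
      rcases hnorm g hgN with h | h
      · rw [S.comm hx h, mul_inv_cancel_right, mul_inv_cancel]; exact one_mem _
      · have hc : s⁻¹ * g * x⁻¹ = x⁻¹ * (s⁻¹ * g) := S.comm h (inv_mem hx)
        have e : x * g * x⁻¹ * g⁻¹ = x * (s * x⁻¹ * s⁻¹) := by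
          calc x * g * x⁻¹ * g⁻¹ = x * s * (s⁻¹ * g * x⁻¹) * g⁻¹ := by group
            _ = x * (s * x⁻¹ * s⁻¹) := by rw [hc]; group
        rw [e]; exact hUP x hx)
    (fun y hy => by
      refine ⟨y⁻¹, inv_mem (hDP hy), s, mem_top _, ?_⟩
      obtain ⟨k, rfl⟩ := mem_zpowers_iff.1 hy
      have e : s * d ^ k * s⁻¹ = (d ^ k)⁻¹ := by
        rw [← inv_zpow, ← hsd, ← MulAut.conj_apply, ← MulAut.conj_apply, map_zpow]
      have e3 : d ^ k * (d ^ k * d ^ k) = 1 := S.cube _ (hDP hy)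
      rw [commutatorElement_def, inv_inv]
      calc d ^ k = (d ^ k)⁻¹ * (d ^ k)⁻¹ * (d ^ k * (d ^ k * d ^ k)) := by group
        _ = (d ^ k)⁻¹ * (d ^ k)⁻¹ := by rw [e3, mul_one]
        _ = (d ^ k)⁻¹ * (s * d ^ k * s⁻¹) := by rw [e]
        _ = _ := by group)
  have : K.Normal := ⟨fun k hk g => hKn g (mem_top g) k hk⟩
  have hsq : ∀ g ∈ normalizer ((S.P : Subgroup M) : Set M), g * g ∈ (S.P : Subgroup M) := by
    intro g hg
    rcases hnorm g hg with h | h
    · exact mul_mem h h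
    rcases hnorm (g * g) (mul_mem hg hg) with h2 | h2
    · exact h2
    exfalso
    -- then `g` lies in the Sylow subgroup, which centralises `d`
    have h3 : g ∈ (S.P : Subgroup M) := by
      have := mul_mem (inv_mem h) h2
      rwa [show (s⁻¹ * g)⁻¹ * (s⁻¹ * (g * g)) = g by group] at this
    have h4 : s ∈ (S.P : Subgroup M) := by
      have := mul_mem h3 (inv_mem h)
      rwa [show g * (s⁻¹ * g)⁻¹ = s by group] at this
    have h5 : d⁻¹ = d := by rw [← hsd]; exact mul_inv_eq_iff_eq_mul.2 (S.comm h4 hd)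
    have h6 : d * d = 1 := by rw [← inv_eq_iff_mul_eq_one]; exact h5
    rw [pow_three, h6, mul_one] at hd3
    exact hd1 hd3
  have hK : K ≠ ⊥ := fun e => hd1 (by
    have : d ∈ K ⊓ (S.P : Subgroup M) := hKP ▸ mem_zpowers d
    exact mem_bot.1 (e ▸ this.1))
  refine normalizer_eq_top_iff.2 ((S.normal_cases hsq K hK).resolve_right fun h => hpd ?_)
  exact hKP ▸ ⟨h hp, hp⟩

end Abstract

namespace PointData

variable {G : Type u} [Group G] [Finite G] {S : Ctx G} {v : G} (D : PointData S v)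

theorem comm {a b : D.M} (ha : a ∈ (D.P : Subgroup D.M)) (hb : b ∈ (D.P : Subgroup D.M)) : a * b = b * a := by
  rw [← D.self] at ha
  exact (mem_centralizer_iff.1 ha b hb).symm

theorem cube (a : D.M) (ha : a ∈ (D.P : Subgroup D.M)) : a * (a * a) = 1 := by
  obtain ⟨x, rfl⟩ := D.surj a
  rw [← map_mul, ← map_mul, show x * (x * x) = 1 from Subtype.ext (S.cube _ ((D.memP x).1 ha)), map_one]

/-- The structure of order nine. -/
def nine : Cfsg.Lib.SymNineLocal.Nine D.M :=
  ⟨D.P, D.card9, D.cube, D.self, D.cent⟩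

theorem mem_of_top (h : normalizer ((D.P : Subgroup D.M) : Set D.M) = ⊤) {g : G} (hg : g * v = v * g) :
    g ∈ normalizer (S.J : Set G) :=
  (D.memN ⟨g, mem_centralizer_singleton_iff.2 hg⟩).1 (by rw [h]; exact mem_top _)

end PointData

end Cfsg.Lib.RankThree
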